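import Cfsg.Agent.Lib.EightSylow.Fusion
import Cfsg.Agent.Lib.PSL2.Sylow
import Cfsg.Agent.S4593

/-!
Simple groups with abelian Sylow 2-subgroups and an involution centralizer `Z₂ × E` with `PSL(2, q) ⊴ E`:
the Sylow 2-subgroups are elementary abelian of order eight and the 2-part of the multiplier is trivial.
-/

set_option autoImplicit false
set_option linter.style.haveILetI false

namespace Cfsg.Agent.JankoRee

open Subgroup Cfsg
open scoped MatrixGroups commutatorElement

theorem core_eq_bot {G : Type*} [Group G] [Finite G] [IsSimpleGroup G] (h2 : 2 ∣ Nat.card G) :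
    pPrimeCore 2 G = ⊥ := by
  refine (IsSimpleGroup.eq_bot_or_eq_top_of_normal (pPrimeCore 2 G) inferInstance).resolve_right fun h => ?_
  have := PCore.coprime_card_pPrimeCore (p := 2) (G := G)
  rw [h, card_top] at this
  exact Nat.prime_two.ne_one (Nat.Coprime.eq_one_of_dvd this.symm h2)

theorem center_eq_bot {G : Type*} [Group G] [IsSimpleGroup G] (hG : ¬ IsMulCommutative G) :
    Subgroup.center G = ⊥ :=
  (IsSimpleGroup.eq_bot_or_eq_top_of_normal _ inferInstance).resolve_right fun h =>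
    hG ⟨⟨fun a b => mem_center_iff.1 (h ▸ mem_top b) a⟩⟩

/-- An abelian Sylow 2-subgroup of `PSL(2, q)`, `q` odd, is a four-group. -/
theorem four_group {H : Type*} [Group H] [Finite H] {F : Type*} [Field F] [Fintype F]
    (hq : Odd (Fintype.card F)) (e : H ≃* Matrix.ProjectiveSpecialLinearGroup (Fin 2) F) (V : Sylow 2 H)
    (hab : ∀ a ∈ (V : Subgroup H), ∀ b ∈ (V : Subgroup H), a * b = b * a) :
    Nat.card (V : Subgroup H) = 4 ∧ ∀ v ∈ (V : Subgroup H), v ^ 2 = 1 := by
  set P : Sylow 2 (Matrix.ProjectiveSpecialLinearGroup (Fin 2) F) :=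
    V.mapSurjective (f := e.toMonoidHom) e.surjective
  obtain ⟨k, hk, hcard, ⟨d⟩⟩ := PSL2.sylow_two_dihedral (PSL2.odd_card_iff.1 hq) P
  let i : (V : Subgroup H) ≃* (P : Subgroup (Matrix.ProjectiveSpecialLinearGroup (Fin 2) F)) :=
    ((V : Subgroup H).equivMapOfInjective e.toMonoidHom e.injective)
  let j := i.trans d
  have hk1 : k = 1 := by
    by_contra hne
    have h := congrArg j (Subtype.ext (hab (j.symm (DihedralGroup.r 1)) (j.symm (DihedralGroup.r 1)).2
      (j.symm (DihedralGroup.sr 0)) (j.symm (DihedralGroup.sr 0)).2) :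
      j.symm (DihedralGroup.r 1) * j.symm (DihedralGroup.sr 0) =
        j.symm (DihedralGroup.sr 0) * j.symm (DihedralGroup.r 1))
    simp only [map_mul, MulEquiv.apply_symm_apply, DihedralGroup.r_mul_sr, DihedralGroup.sr_mul_r,
      DihedralGroup.sr.injEq, zero_sub, zero_add] at h
    have h2 : ((2 : ℕ) : ZMod (2 ^ k)) = 0 := by
      push_cast
      linear_combination -h
    rw [ZMod.natCast_eq_zero_iff] at h2
    have := Nat.le_of_dvd two_pos h2
    have : 4 ≤ 2 ^ k := (show 4 = 2 ^ 2 by norm_num) ▸ Nat.pow_le_pow_right two_pos (by omega)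
    omega
  subst hk1
  refine ⟨(Nat.card_congr i.toEquiv).trans hcard, fun v hv => ?_⟩
  have hd : ∀ g : DihedralGroup (2 ^ 1), g ^ 2 = 1 := by decide
  have := congrArg j.symm (hd (j ⟨v, hv⟩))
  rw [map_one, map_pow, j.symm_apply_apply] at this
  exact congrArg Subtype.val this

theorem facts {G : Type*} [Group G] [Finite G] [IsSimpleGroup G]
    (hG : ¬ IsMulCommutative G) (hab : ∀ S : Sylow 2 G, IsMulCommutative ↥(S : Subgroup G))
    (t : G) (ht : orderOf t = 2)
    (E : Subgroup G) (hE : IsInternalDirectProduct (zpowers t) E (centralizer ({t} : Set G)))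
    {F : Type*} [Field F] [Fintype F] (hFo : Odd (Fintype.card F)) (hF3 : 3 < Fintype.card F)
    (N : Subgroup ↥E) [N.Normal] (hN : Nonempty (↥N ≃* Matrix.ProjectiveSpecialLinearGroup (Fin 2) F))
    (hNc : centralizer (N : Set ↥E) = ⊥) :
    ∃ (S : Sylow 2 G) (T : Subgroup G) (x : G), IsElementaryAbelian 2 (S : Subgroup G) ∧
      Nat.card ↥(S : Subgroup G) = 8 ∧ T ≤ (S : Subgroup G) ∧ zpowers t ⊔ T = (S : Subgroup G) ∧
      (∀ v ∈ T, x * v * x⁻¹ ∈ T) ∧ (∀ v ∈ T, x * v * x⁻¹ = v → v = 1) ∧ x * t = t * x := by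
  classical
  haveI : Fact (Nat.Prime 2) := ⟨Nat.prime_two⟩
  obtain ⟨e⟩ := hN
  obtain ⟨htC, hEC, hcomm, hinf, hsup⟩ := hE
  haveI := PSL2.psl_isSimpleGroup (F := F) (by omega)
  haveI : Nontrivial N := e.toEquiv.nontrivial
  haveI : IsSimpleGroup N := IsSimpleGroup.isSimpleGroup_of_surjective e.symm.toMonoidHom e.symm.surjective
  -- commutativity of 2-subgroups
  have hcomm2 : ∀ P : Subgroup G, IsPGroup 2 P → ∀ a ∈ P, ∀ b ∈ P, a * b = b * a := by
    intro P hP a ha b hb
    obtain ⟨Q, hQ⟩ := hP.exists_le_sylow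
    exact congrArg Subtype.val ((hab Q).is_comm.comm ⟨a, hQ ha⟩ ⟨b, hQ hb⟩)
  obtain ⟨V⟩ : Nonempty (Sylow 2 N) := inferInstance
  obtain ⟨T0, hT0⟩ := (V.2.map N.subtype).exists_le_sylow
  have hTcomm : ∀ a ∈ (T0 : Subgroup E), ∀ b ∈ (T0 : Subgroup E), a * b = b * a := fun a ha b hb =>
    Subtype.ext (hcomm2 _ (T0.2.map E.subtype) a ⟨a, ha, rfl⟩ b ⟨b, hb, rfl⟩)
  have hVcomm : ∀ a ∈ (V : Subgroup N), ∀ b ∈ (V : Subgroup N), a * b = b * a := fun a ha b hb =>
    Subtype.ext (hTcomm a (hT0 ⟨a, ha, rfl⟩) b (hT0 ⟨b, hb, rfl⟩))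
  obtain ⟨hV4, hVsq⟩ := four_group hFo e V hVcomm
  have hNna : ¬ IsMulCommutative N := fun h => by
    have hNS : (V : Subgroup N) = ⊥ := by
      refine (IsSimpleGroup.eq_bot_or_eq_top_of_normal (V : Subgroup N) ⟨fun a ha g => by
        rwa [h.is_comm.comm g a, mul_inv_cancel_right]⟩).resolve_right fun htop => ?_
      obtain ⟨a, ha, ha1⟩ := exists_prime_orderOf_dvd_card' (G := N) 2 (by
        have := (V : Subgroup N).card_subgroup_dvd_card
        rw [hV4] at this
        exact (dvd_trans ⟨2, rfl⟩ this)) |>.imp fun a ha => (⟨mem_top a, ha⟩ : a ∈ (⊤ : Subgroup N) ∧ _)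
      have hz : zpowers a = ⊤ := (IsSimpleGroup.eq_bot_or_eq_top_of_normal (zpowers a) ⟨fun b hb g => by
        rwa [h.is_comm.comm g b, mul_inv_cancel_right]⟩).resolve_left fun e0 => by
          rw [zpowers_eq_bot] at e0
          rw [e0, orderOf_one] at ha1
          norm_num at ha1
      have : Nat.card N = 2 := by rw [← card_top (G := N), ← hz, Nat.card_zpowers, ha1]
      rw [htop, card_top, this] at hV4
      norm_num at hV4
    rw [hNS, Subgroup.card_bot] at hV4
    norm_num at hV4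
  have hNeven : 2 ∣ Nat.card N :=
    dvd_trans (show 2 ∣ Nat.card (V : Subgroup N) by rw [hV4]; norm_num) (V : Subgroup N).card_subgroup_dvd_card
  -- a 2-element of E centralising V lies in N
  have hTV : (T0 : Subgroup E) = (V : Subgroup N).map N.subtype := by
    refine le_antisymm (fun u hu => ?_) hT0
    have huN : u ∈ N := by
      obtain ⟨g, hg⟩ := S4593.result (center_eq_bot hNna) (core_eq_bot hNeven) V
        ⟨⟨fun a b => Subtype.ext (hVcomm _ a.2 _ b.2)⟩⟩ (MulAut.conjNormal (H := N) u) (by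
          obtain ⟨m, hm⟩ := T0.2 ⟨u, hu⟩
          obtain ⟨i, -, hi⟩ := (Nat.dvd_prime_pow Nat.prime_two).1
            (orderOf_dvd_of_pow_eq_one (x := MulAut.conjNormal (H := N) u) (n := 2 ^ m) (by
              rw [← map_pow, show u ^ 2 ^ m = 1 from congrArg Subtype.val hm, map_one]))
          exact ⟨i, hi⟩) (fun v hv => Subtype.ext (by
            rw [MulAut.conjNormal_apply, hTcomm u hu _ ((hT0 ⟨v, hv, rfl⟩) : (v : E) ∈ (T0 : Subgroup E)), mul_inv_cancel_right]))
      have hc : (g : E)⁻¹ * u ∈ centralizer (N : Set E) := by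
        rw [mem_centralizer_iff]
        intro w hw
        have h := congrArg Subtype.val (hg ⟨w, hw⟩)
        rw [MulAut.conjNormal_apply] at h
        simp only [Subgroup.coe_mul, Subgroup.coe_inv] at h
        calc w * ((g : E)⁻¹ * u) = (g : E)⁻¹ * ((g : E) * w * (g : E)⁻¹) * u := by group
          _ = (g : E)⁻¹ * (u * w * u⁻¹) * u := by rw [h]
          _ = (g : E)⁻¹ * u * w := by group
      rw [hNc, mem_bot] at hc
      rw [← inv_mul_eq_one.1 hc]
      exact g.2
    have hle : (T0 : Subgroup E).subgroupOf N = (V : Subgroup N) :=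
      V.3 (T0.2.comap_subtype) fun v hv => hT0 ⟨v, hv, rfl⟩
    exact ⟨⟨u, huN⟩, hle ▸ (mem_subgroupOf.2 hu), rfl⟩
  set T : Subgroup G := (T0 : Subgroup E).map E.subtype with hT
  have hT4 : Nat.card T = 4 := by
    rw [hT, card_map_of_injective E.subtype_injective, hTV, card_map_of_injective N.subtype_injective, hV4]
  have hTsq : ∀ v ∈ T, v ^ 2 = 1 := by
    rintro _ ⟨a, ha, rfl⟩
    rw [hTV] at ha
    obtain ⟨b, hb, rfl⟩ := ha
    rw [← map_pow, ← map_pow, hVsq b hb, map_one, map_one]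
  -- the Sylow subgroup
  have hTC : ∀ v ∈ T, v * t = t * v := fun v hv => by
    obtain ⟨a, -, rfl⟩ := hv
    exact (hcomm t (mem_zpowers t) a a.2).symm
  have ht2 : t ^ 2 = 1 := ht ▸ pow_orderOf_eq_one t
  have hz2 : ∀ w ∈ zpowers t, w = 1 ∨ w = t := fun w hw => by
    obtain ⟨k, hk⟩ := (mem_powers_iff_mem_zpowers.2 hw : w ∈ Submonoid.powers t)
    rcases Nat.even_or_odd k with ⟨r, hr⟩ | ⟨r, hr⟩
    · left; rw [← hk]; show t ^ k = 1; rw [hr, ← two_mul, pow_mul, ht2, one_pow]
    · right; rw [← hk]; show t ^ k = t; rw [hr, pow_succ, pow_mul, ht2, one_pow, one_mul]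
  obtain ⟨Q, hQ⟩ := (IsPGroup.of_card (p := 2) (n := 1) (G := zpowers t)
    (by rw [Nat.card_zpowers, ht, pow_one])).exists_le_sylow
  have hQC : (Q : Subgroup G) ≤ centralizer ({t} : Set G) := fun a ha =>
    mem_centralizer_singleton_iff.2 (hcomm2 _ Q.2 a ha t (hQ (mem_zpowers t)))
  have htwo : ∀ (K : Subgroup G), (∀ k ∈ K, k * t = t * k) → zpowers t ⊓ K = ⊥ →
      Nat.card ↥(zpowers t ⊔ K) = 2 * Nat.card K ∧
        ∀ a ∈ zpowers t ⊔ K, ∃ w ∈ zpowers t, ∃ k ∈ K, w * k = a ∧ w * k = k * w := by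
    intro K hK hd
    have hc : ∀ (w : zpowers t) (k : K), Commute ((zpowers t).subtype w) (K.subtype k) := fun w k => by
      show Commute (w : G) (k : G)
      obtain ⟨i, hi⟩ := mem_zpowers_iff.1 w.2
      rw [← hi]
      exact Commute.zpow_left (hK k k.2).symm i
    let f := MonoidHom.noncommCoprod (zpowers t).subtype K.subtype hc
    have hr : f.range = zpowers t ⊔ K := by
      rw [MonoidHom.noncommCoprod_range, range_subtype, range_subtype]
    have hinj : Function.Injective f := by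
      refine (MonoidHom.noncommCoprod_injective (zpowers t).subtype K.subtype hc).2 ⟨subtype_injective _, subtype_injective _, ?_⟩
      rw [range_subtype, range_subtype, disjoint_iff, hd]
    refine ⟨?_, fun a ha => ?_⟩
    · rw [← hr, ← Nat.card_congr (MonoidHom.ofInjective hinj).toEquiv, Nat.card_prod, Nat.card_zpowers, ht]
    · obtain ⟨⟨w, k⟩, rfl⟩ : a ∈ f.range := hr ▸ ha
      exact ⟨w, w.2, k, k.2, (MonoidHom.noncommCoprod_apply _ _ hc (w, k)).symm, hc w k⟩
  set U := zpowers t ⊔ T with hU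
  have hU8 : Nat.card U = 8 ∧ ∀ a ∈ U, a ^ 2 = 1 := by
    have hd : zpowers t ⊓ T = ⊥ := le_bot_iff.1 (hinf ▸ inf_le_inf_left _ (map_subtype_le _))
    obtain ⟨h1, h2⟩ := htwo T hTC hd
    refine ⟨by rw [h1, hT4], fun a ha => ?_⟩
    obtain ⟨w, hw, v, hv, rfl, hwv⟩ := h2 a ha
    rcases hz2 w hw with rfl | rfl
    · rw [one_mul]; exact hTsq v hv
    · rw [Commute.mul_pow hwv, ht2, one_mul]; exact hTsq v hv
  have hUp : IsPGroup 2 U := IsPGroup.of_card (n := 3) (by rw [hU8.1]; norm_num)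
  obtain ⟨S, hS⟩ := hUp.exists_le_sylow
  have hSC : (S : Subgroup G) ≤ centralizer ({t} : Set G) := fun a ha =>
    mem_centralizer_singleton_iff.2 (hcomm2 _ S.2 a ha t (hS (mem_sup_left (mem_zpowers t))))
  have hS8 : Nat.card (S : Subgroup G) = 8 := by
    have hET : ¬ 2 ∣ (T0 : Subgroup E).index := T0.not_dvd_index
    have h2 : Nat.card (centralizer ({t} : Set G)) = 2 * Nat.card E := by
      rw [← hsup]
      exact (htwo E (fun k hk => (hcomm t (mem_zpowers t) k hk).symm) hinf).1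
    have hET' := (T0 : Subgroup E).index_mul_card
    rw [card_map_of_injective E.subtype_injective] at hT4
    rw [← hET', hT4] at h2
    obtain ⟨k, hk⟩ := S.2.exists_card_eq
    have h3 : Nat.card (S : Subgroup G) ∣ Nat.card (centralizer ({t} : Set G)) := card_dvd_of_le hSC
    rw [hk, h2, show 2 * ((T0 : Subgroup E).index * 4) = 2 ^ 3 * (T0 : Subgroup E).index by ring] at h3
    have hle : 8 ∣ Nat.card (S : Subgroup G) := hU8.1 ▸ card_dvd_of_le hS
    rw [hk, show 8 = 2 ^ 3 by norm_num, Nat.pow_dvd_pow_iff_le_right (by norm_num)] at hle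
    obtain ⟨i, rfl⟩ : ∃ i, k = 3 + i := ⟨k - 3, by omega⟩
    rw [pow_add] at h3
    have h4 := Nat.dvd_of_mul_dvd_mul_left (by norm_num) h3
    rcases i with _ | i
    · rw [hk]; norm_num
    · exact absurd (dvd_trans ⟨2 ^ i, by rw [pow_succ, mul_comm]⟩ h4) hET
  have hSU : U = (S : Subgroup G) := eq_of_le_of_card_ge hS (by rw [hS8, hU8.1])
  -- the element of the normalizer
  obtain ⟨y, hy, hyC⟩ : ∃ y ∈ normalizer ((V : Subgroup N) : Set N),
      y ∉ centralizer ((V : Subgroup N) : Set N) := by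
    by_contra hc
    push Not at hc
    have hVn : (V : Subgroup N).Normal := by
      have hcompl := MonoidHom.ker_transferSylow_isComplement' V fun a ha => hc a ha
      rcases IsSimpleGroup.eq_bot_or_eq_top_of_normal (MonoidHom.transferSylow V (fun a ha => hc a ha)).ker
        inferInstance with h | h
      · rw [h] at hcompl
        rw [isComplement'_bot_left] at hcompl
        rw [hcompl]; infer_instance
      · rw [h] at hcompl
        rw [isComplement'_top_left] at hcompl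
        rw [hcompl, Subgroup.card_bot] at hV4
        norm_num at hV4
    rcases hVn.eq_bot_or_eq_top with h | h
    · rw [h, Subgroup.card_bot] at hV4; norm_num at hV4
    · exact hNna ⟨⟨fun a b => hVcomm a (h ▸ mem_top a) b (h ▸ mem_top b)⟩⟩
  refine ⟨S, T, ((y : E) : G), ⟨hab S, fun a ha => hU8.2 a (hSU ▸ ha)⟩, hS8, hSU ▸ le_sup_right,
    hSU, ?_, ?_, (hcomm t (mem_zpowers t) _ (y : E).2).symm⟩
  · rintro _ ⟨a, ha, rfl⟩
    rw [hTV] at ha
    obtain ⟨b, hb, rfl⟩ := ha
    exact ⟨(y * b * y⁻¹ : N), by rw [hTV]; exact ⟨_, (mem_normalizer_iff.1 hy b).1 hb, rfl⟩, rfl⟩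
  · rintro _ ⟨a, ha, rfl⟩ hfix
    rw [hTV] at ha
    obtain ⟨b, hb, rfl⟩ := ha
    have hfix' : y * b * y⁻¹ = b := Subtype.ext (Subtype.ext hfix)
    by_contra hb1
    have hb1' : b ≠ 1 := fun e0 => hb1 (by simp [e0])
    refine hyC (mem_centralizer_iff.2 fun c hc => ?_)
    -- an automorphism of odd order of a four-group fixing an involution is trivial
    haveI := Fintype.ofFinite (V : Subgroup N)
    let σ : (V : Subgroup N) ≃* (V : Subgroup N) := (V : Subgroup N).normalizerMonoidHom ⟨y, hy⟩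
    have hσb : σ ⟨b, hb⟩ = ⟨b, hb⟩ := Subtype.ext hfix'
    have key : ∀ w : (V : Subgroup N), σ w = w ∨ σ w = w * ⟨b, hb⟩ := by
      intro w
      by_cases hw1 : w = 1
      · exact Or.inl (by rw [hw1, map_one])
      by_cases hwb : w = ⟨b, hb⟩
      · exact Or.inl (by rw [hwb, hσb])
      have hcardV : (Finset.univ : Finset (V : Subgroup N)).card = 4 := by
        rw [Finset.card_univ, ← Nat.card_eq_fintype_card, hV4]
      have hb1s : (⟨b, hb⟩ : (V : Subgroup N)) ≠ 1 := fun e0 => hb1' (congrArg Subtype.val e0)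
      have h4 : ({1, ⟨b, hb⟩, w, w * ⟨b, hb⟩} : Finset (V : Subgroup N)).card = 4 := by
        rw [Finset.card_insert_of_notMem, Finset.card_insert_of_notMem, Finset.card_insert_of_notMem,
          Finset.card_singleton]
        · simpa using hb1s
        · simp only [Finset.mem_insert, Finset.mem_singleton, not_or]
          exact ⟨fun e0 => hwb e0.symm, fun e0 => hw1 (mul_eq_right.1 e0.symm)⟩
        · simp only [Finset.mem_insert, Finset.mem_singleton, not_or]
          refine ⟨hb1s.symm, fun e0 => hw1 e0.symm, fun e0 => hwb ?_⟩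
          rw [eq_comm, mul_eq_one_iff_eq_inv] at e0
          rw [e0]
          exact Subtype.ext (inv_eq_of_mul_eq_one_right (by rw [← pow_two]; exact hVsq b hb))
      have := (Finset.eq_univ_of_card _ (h4.trans (by rw [← hcardV, Finset.card_univ]))) ▸ Finset.mem_univ (σ w)
      simp only [Finset.mem_insert, Finset.mem_singleton] at this
      rcases this with e0 | e0 | e0 | e0
      · exact absurd (σ.map_eq_one_iff.1 e0) hw1
      · exact absurd (σ.injective (e0.trans hσb.symm)) hwb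
      · exact Or.inl e0
      · exact Or.inr e0
    have hsq : ∀ w : (V : Subgroup N), σ (σ w) = w := fun w => by
      rcases key w with e0 | e0
      · rw [e0, e0]
      · rw [e0, map_mul, e0, hσb, mul_assoc, ← pow_two,
          show (⟨b, hb⟩ : (V : Subgroup N)) ^ 2 = 1 from Subtype.ext (hVsq b hb), mul_one]
    have hy2 : y ^ 2 ∈ centralizer ((V : Subgroup N) : Set N) := mem_centralizer_iff.2 fun d hd => by
      have := congrArg Subtype.val (hsq ⟨d, hd⟩)
      simp only [σ, Subgroup.normalizerMonoidHom, Subgroup.coe_mul] at this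
      have e2 : y * (y * d * y⁻¹) * y⁻¹ = d := this
      calc d * y ^ 2 = y * (y * d * y⁻¹) * y⁻¹ * y ^ 2 := by rw [e2]
        _ = y ^ 2 * d := by rw [pow_two]; group
    -- the automizer has odd order
    obtain ⟨r, hr⟩ : Odd ((centralizer ((V : Subgroup N) : Set N)).relIndex (normalizer ((V : Subgroup N) : Set N))) := by
      refine Nat.not_even_iff_odd.1 fun he => V.not_dvd_index ?_
      exact (even_iff_two_dvd.1 he).trans ((relIndex_dvd_of_le_left _
        (fun a ha => mem_centralizer_iff.2 fun d hd => hVcomm d hd a ha)).trans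
        (relIndex_dvd_index_of_le le_normalizer))
    haveI : ((centralizer ((V : Subgroup N) : Set N)).subgroupOf (normalizer ((V : Subgroup N) : Set N))).Normal := by
      rw [← Subgroup.normalizerMonoidHom_ker]; infer_instance
    have hp := Subgroup.pow_index_mem ((centralizer ((V : Subgroup N) : Set N)).subgroupOf
      (normalizer ((V : Subgroup N) : Set N))) (⟨y, hy⟩ : normalizer ((V : Subgroup N) : Set N))
    rw [← Subgroup.relIndex, hr, mem_subgroupOf] at hp
    simp only [SubmonoidClass.coe_pow] at hp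
    rw [pow_succ, pow_mul] at hp
    exact mem_centralizer_iff.1 ((Subgroup.mul_mem_cancel_left _ (pow_mem hy2 r)).1 hp) c hc

/-- No perfect central extension by a nontrivial 2-group. -/
theorem cover_trivial {G : Type*} [Group G] [Finite G] [IsSimpleGroup G] (hG : ¬ IsMulCommutative G)
    (t : G) (ht : orderOf t = 2) (S : Sylow 2 G) (hS : IsElementaryAbelian 2 (S : Subgroup G))
    (hS8 : Nat.card ↥(S : Subgroup G) = 8) (T : Subgroup G) (hTS : T ≤ (S : Subgroup G))
    (hsup : zpowers t ⊔ T = (S : Subgroup G)) (x : G) (hxT : ∀ v ∈ T, x * v * x⁻¹ ∈ T)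
    (hfix : ∀ v ∈ T, x * v * x⁻¹ = v → v = 1) (hxt : x * t = t * x)
    {L : Type*} [Group L] [Finite L] (π : L →* G) (hπ : Function.Surjective π)
    (hL : _root_.commutator L = ⊤) (hZ : π.ker ≤ Subgroup.center L) (hZ2 : IsPGroup 2 π.ker) : π.ker = ⊥ := by
  classical
  haveI : Fact (Nat.Prime 2) := ⟨Nat.prime_two⟩
  haveI : IsMulCommutative S := hS.1
  set P0 := (S : Subgroup G).comap π with hP0
  have hP0p : IsPGroup 2 P0 := S.2.comap_of_ker_isPGroup π hZ2
  have hidx : ¬ 2 ∣ P0.index := by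
    rw [hP0, index_comap_of_surjective _ hπ]; exact S.not_dvd_index
  set P : Sylow 2 L := hP0p.toSylow hidx
  have hPmem : ∀ a : L, a ∈ (P : Subgroup L) ↔ π a ∈ (S : Subgroup G) := fun a => Iff.rfl
  have htS : t ∈ (S : Subgroup G) := hsup ▸ mem_sup_left (mem_zpowers t)
  have hker : ∀ a ∈ (P : Subgroup L), ∀ b ∈ (P : Subgroup L), π ⁅a, b⁆ = 1 := fun a ha b hb => by
    rw [map_commutatorElement, commutatorElement_eq_one_iff_mul_comm]
    exact congrArg Subtype.val (hS.1.is_comm.comm ⟨_, ha⟩ ⟨_, hb⟩)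
  have hcen : ∀ a b : L, π ⁅a, b⁆ = 1 → ∀ g, g * ⁅a, b⁆ = ⁅a, b⁆ * g := fun a b h g =>
    mem_center_iff.1 (hZ h) g
  obtain ⟨τ, hτ⟩ := hπ t
  obtain ⟨l, hl⟩ := hπ x
  have hτP : τ ∈ (P : Subgroup L) := by rw [hPmem, hτ]; exact htS
  have hcommz : ∀ {a b z : L}, π z = 1 → ⁅a * z, b⁆ = ⁅a, b⁆ ∧ ⁅a, b * z⁆ = ⁅a, b⁆ := by
    intro a b z hz
    have hzc : ∀ g : L, g * z = z * g := fun g => mem_center_iff.1 (hZ hz) g
    constructor
    · rw [commutatorElement_def, commutatorElement_def, mul_inv_rev,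
        show a * z * b * (z⁻¹ * a⁻¹) * b⁻¹ = a * (z * b * z⁻¹) * a⁻¹ * b⁻¹ by group, ← hzc b,
        mul_inv_cancel_right]
    · rw [commutatorElement_def, commutatorElement_def, mul_inv_rev,
        show a * (b * z) * a⁻¹ * (z⁻¹ * b⁻¹) = a * b * (z * a⁻¹ * z⁻¹) * b⁻¹ by group, ← hzc a⁻¹,
        mul_inv_cancel_right]
  have hmulr : ∀ a ∈ (P : Subgroup L), ∀ b ∈ (P : Subgroup L), ∀ c ∈ (P : Subgroup L),
      ⁅a, b * c⁆ = ⁅a, b⁆ * ⁅a, c⁆ := by
    intro a ha b hb c hc
    have h := hcen a c (hker a ha c hc) b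
    calc ⁅a, b * c⁆ = ⁅a, b⁆ * (b * ⁅a, c⁆ * b⁻¹) := by simp only [commutatorElement_def]; group
      _ = ⁅a, b⁆ * ⁅a, c⁆ := by rw [h, mul_inv_cancel_right]
  -- τ commutes with the preimage of T
  have hτT : ∀ b : L, π b ∈ T → ⁅τ, b⁆ = 1 := by
    have hbP : ∀ b : L, π b ∈ T → b ∈ (P : Subgroup L) := fun b hb => (hPmem b).2 (hTS hb)
    have hinv : ∀ b : L, π b ∈ T → ⁅τ, l * b * l⁻¹⁆ = ⁅τ, b⁆ := fun b hb => by
      have h1 : π (τ⁻¹ * (l * τ * l⁻¹)) = 1 := by
        rw [map_mul, map_inv, map_mul, map_mul, map_inv, hτ, hl, hxt]; group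
      have h2 := ((hcommz (a := τ) (b := l * b * l⁻¹) h1).1)
      rw [mul_inv_cancel_left] at h2
      rw [← h2]
      have h3 := hcen τ b (hker τ hτP b (hbP b hb)) l
      calc ⁅l * τ * l⁻¹, l * b * l⁻¹⁆ = l * ⁅τ, b⁆ * l⁻¹ := by simp only [commutatorElement_def]; group
        _ = ⁅τ, b⁆ := by rw [h3, mul_inv_cancel_right]
    haveI := Fintype.ofFinite T
    intro b hb
    let f : T → T := fun v => ⟨(v : G)⁻¹ * (x * v * x⁻¹), mul_mem (inv_mem v.2) (hxT _ v.2)⟩
    have hf : Function.Injective f := by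
      intro v w h
      have h' : (v : G)⁻¹ * (x * v * x⁻¹) = (w : G)⁻¹ * (x * w * x⁻¹) := congrArg Subtype.val h
      have hc : ∀ p ∈ T, ∀ q ∈ T, p * q = q * p := fun p hp q hq =>
        congrArg Subtype.val (hS.1.is_comm.comm ⟨p, hTS hp⟩ ⟨q, hTS hq⟩)
      have h1 := hfix ((w : G) * (v : G)⁻¹) (mul_mem w.2 (inv_mem v.2)) (by
        calc x * ((w : G) * (v : G)⁻¹) * x⁻¹ = (x * w * x⁻¹) * (x * v * x⁻¹)⁻¹ := by group
          _ = ((w : G) * ((w : G)⁻¹ * (x * w * x⁻¹))) * ((v : G) * ((v : G)⁻¹ * (x * v * x⁻¹)))⁻¹ := by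
              group
          _ = (w : G) * (v : G)⁻¹ := by rw [h']; group)
      rw [mul_inv_eq_one] at h1
      exact Subtype.ext h1.symm
    obtain ⟨v, hv⟩ := (Finite.injective_iff_surjective.1 hf) ⟨π b, hb⟩
    obtain ⟨c, hc⟩ := hπ v
    have hcT : π c ∈ T := hc ▸ v.2
    have hv' : π (c⁻¹ * (l * c * l⁻¹)) = π b := by
      rw [map_mul, map_inv, map_mul, map_mul, map_inv, hc, hl]
      exact congrArg Subtype.val hv
    have hz : π (b⁻¹ * (c⁻¹ * (l * c * l⁻¹))) = 1 := by rw [map_mul, map_inv, hv', inv_mul_cancel]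
    have e1 := (hcommz (a := τ) (b := b) hz).2
    rw [mul_inv_cancel_left] at e1
    rw [← e1, hmulr τ hτP _ (inv_mem (hbP c hcT)) _ ((hPmem _).2 (by
      rw [map_mul, map_mul, map_inv, hl]; exact hTS (hxT _ hcT))), hinv c hcT,
      ← hmulr τ hτP _ (inv_mem (hbP c hcT)) _ (hbP c hcT), inv_mul_cancel, commutatorElement_one_right]
  have hcentre : ∀ b ∈ (P : Subgroup L), ⁅τ, b⁆ = 1 := by
    intro b hb
    have hle : (S : Subgroup G) ≤ (((centralizer ({τ} : Set L)) ⊓ (P : Subgroup L)).map π) := by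
      rw [← hsup, sup_le_iff, zpowers_le]
      refine ⟨⟨τ, ⟨mem_centralizer_singleton_iff.2 rfl, hτP⟩, hτ⟩, fun v hv => ?_⟩
      obtain ⟨c, rfl⟩ := hπ v
      exact ⟨c, ⟨mem_centralizer_singleton_iff.2 (commutatorElement_eq_one_iff_mul_comm.1 (hτT c hv)).symm,
        (hPmem c).2 (hTS hv)⟩, rfl⟩
    obtain ⟨c, hc, hcb⟩ := hle ((hPmem b).1 hb)
    have hz : π (c⁻¹ * b) = 1 := by rw [map_mul, map_inv, hcb, inv_mul_cancel]
    have e1 := (hcommz (a := τ) (b := c) hz).2
    rw [mul_inv_cancel_left] at e1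
    rw [e1, commutatorElement_eq_one_iff_mul_comm]
    exact (mem_centralizer_singleton_iff.1 hc.1).symm
  have hPcomm : ∀ a ∈ (P : Subgroup L), ∀ b ∈ (P : Subgroup L), a * b = b * a := by
    intro a ha b hb
    rw [← commutatorElement_eq_one_iff_mul_comm]
    by_cases h1 : π a = 1
    · rw [commutatorElement_eq_one_iff_mul_comm]
      exact (mem_center_iff.1 (hZ h1) b).symm
    obtain ⟨n, hn⟩ := EightSylow.transitive S hS hS8 (EightSylow.commutator_eq_top hG)
      (s := ⟨t, htS⟩) (u := ⟨π a, ha⟩) (fun e0 => by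
        have : t = 1 := congrArg Subtype.val e0
        rw [this, orderOf_one] at ht
        norm_num at ht) (fun e0 => h1 (congrArg Subtype.val e0))
    obtain ⟨m, hm⟩ := hπ (n : G)
    have hn' : π (m * τ * m⁻¹) = π a := by
      rw [map_mul, map_mul, map_inv, hm, hτ]
      exact congrArg Subtype.val hn
    have hz : π ((m * τ * m⁻¹)⁻¹ * a) = 1 := by rw [map_mul, map_inv, hn', inv_mul_cancel]
    have e1 := (hcommz (a := m * τ * m⁻¹) (b := b) hz).1
    rw [mul_inv_cancel_left] at e1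
    have hb' : m⁻¹ * b * m ∈ (P : Subgroup L) := by
      rw [hPmem, map_mul, map_mul, map_inv, hm]
      exact (mem_normalizer_iff''.1 n.2 _).1 hb
    rw [e1, show ⁅m * τ * m⁻¹, b⁆ = m * ⁅τ, m⁻¹ * b * m⁆ * m⁻¹ by simp only [commutatorElement_def]; group,
      hcentre _ hb', mul_one, mul_inv_cancel]
  -- transfer
  haveI hPc : IsMulCommutative (P : Subgroup L) := ⟨⟨fun a b => Subtype.ext (hPcomm a a.2 b b.2)⟩⟩
  letI : CommGroup (P : Subgroup L) := { mul_comm := fun a b => hPc.is_comm.comm a b }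
  rw [eq_bot_iff]
  intro z hz
  have hzP : z ∈ (P : Subgroup L) := by rw [hPmem, hz]; exact one_mem _
  have hzc : ∀ (k : ℕ) (g₀ : L), g₀⁻¹ * z ^ k * g₀ ∈ (P : Subgroup L) → g₀⁻¹ * z ^ k * g₀ = z ^ k :=
    fun k g₀ _ => by
      rw [mul_assoc, ← mem_center_iff.1 (pow_mem (hZ hz) k) g₀, inv_mul_cancel_left]
  have htr := MonoidHom.transfer_eq_pow (MonoidHom.id (P : Subgroup L)) z hzc
  have h1 : MonoidHom.transfer (MonoidHom.id (P : Subgroup L)) z = 1 :=
    MonoidHom.mem_ker.1 (Abelianization.commutator_subset_ker _ (hL ▸ mem_top z))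
  rw [h1] at htr
  have hzk : z ^ (P : Subgroup L).index = 1 := (congrArg Subtype.val htr).symm
  obtain ⟨k, hk⟩ := hZ2 ⟨z, hz⟩
  have hk' : z ^ 2 ^ k = 1 := congrArg Subtype.val hk
  have hco : Nat.Coprime (2 ^ k) (P : Subgroup L).index :=
    Nat.Coprime.pow_left k ((Nat.Prime.coprime_iff_not_dvd Nat.prime_two).2 P.not_dvd_index)
  exact mem_bot.2 (by simpa [hco.gcd_eq_one] using pow_gcd_eq_one.2 ⟨hk', hzk⟩)

end Cfsg.Agent.JankoRee
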